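import Mathlib

/-!
Powers of weakly regular sequences.
-/

set_option autoImplicit false

universe u v

namespace Groth.Agent.RegPow

open RingTheory.Sequence Pointwise

variable {A : Type u} [CommRing A]

theorem isWeaklyRegular_mid : ∀ (rs : List A) {X Y Z : Type v} [AddCommGroup X] [Module A X] [AddCommGroup Y]
    [Module A Y] [AddCommGroup Z] [Module A Z] (a : X →ₗ[A] Y) (b : Y →ₗ[A] Z), Function.Injective a →
    Function.Surjective b → Function.Exact a b → IsWeaklyRegular X rs → IsWeaklyRegular Z rs →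
    IsWeaklyRegular Y rs := by
  intro rs
  induction rs with
  | nil => intros; exact IsWeaklyRegular.nil A _
  | cons f rs ih =>
    intro X Y Z _ _ _ _ _ _ a b ha hb hex hX hZ
    obtain ⟨hfX, hrX⟩ := (isWeaklyRegular_cons_iff X f rs).1 hX
    obtain ⟨hfZ, hrZ⟩ := (isWeaklyRegular_cons_iff Z f rs).1 hZ
    have hf : IsSMulRegular Y f := by
      refine IsSMulRegular.of_right_eq_zero_of_smul fun y hy => ?_
      have h0 : f • b y = f • (0 : Z) := by rw [← map_smul, hy, map_zero, smul_zero]
      obtain ⟨x, rfl⟩ := (hex y).1 (hfZ h0)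
      rw [hfX (show f • x = f • (0 : X) by rw [smul_zero]; exact ha (by rw [map_smul, hy, map_zero])), map_zero]
    refine (isWeaklyRegular_cons_iff Y f rs).2 ⟨hf, ih _ _ ?_ (QuotSMulTop.map_surjective f hb)
      (QuotSMulTop.map_exact f hex hb) hrX hrZ⟩
    rw [injective_iff_map_eq_zero]
    intro q hq
    obtain ⟨x, rfl⟩ := Submodule.Quotient.mk_surjective _ q
    rw [QuotSMulTop.map_apply_mk, Submodule.Quotient.mk_eq_zero] at hq
    obtain ⟨y, -, hy : f • y = a x⟩ := hq
    have h0 : f • b y = f • (0 : Z) := by rw [← map_smul, hy, hex.apply_apply_eq_zero, smul_zero]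
    obtain ⟨x0, rfl⟩ := (hex y).1 (hfZ h0)
    rw [Submodule.Quotient.mk_eq_zero, ← ha ((map_smul a f x0).trans hy)]
    exact Submodule.smul_mem_pointwise_smul x0 f _ Submodule.mem_top

theorem isWeaklyRegular_pow_head {M : Type v} [AddCommGroup M] [Module A M] (x : A) (rs : List A)
    (h : IsWeaklyRegular M (x :: rs)) : ∀ k : ℕ, 1 ≤ k → IsWeaklyRegular M (x ^ k :: rs) := by
  obtain ⟨hx, hr⟩ := (isWeaklyRegular_cons_iff M x rs).1 h
  intro k hk
  induction k with
  | zero => omega
  | succ k ih =>
    rcases Nat.eq_zero_or_pos k with rfl | hk0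
    · rwa [zero_add, pow_one]
    obtain ⟨hxk, hrk⟩ := (isWeaklyRegular_cons_iff M (x ^ k) rs).1 (ih hk0)
    refine (isWeaklyRegular_cons_iff M (x ^ (k + 1)) rs).2 ⟨hx.pow (k + 1), ?_⟩
    let a : QuotSMulTop (x ^ k) M →ₗ[A] QuotSMulTop (x ^ (k + 1)) M :=
      Submodule.mapQ _ _ (LinearMap.lsmul A M x) (by
        intro m hm
        obtain ⟨y, -, rfl⟩ := hm
        refine ⟨y, trivial, ?_⟩
        change x ^ (k + 1) • y = x • (x ^ k • y)
        rw [smul_smul, pow_succ'])
    let b : QuotSMulTop (x ^ (k + 1)) M →ₗ[A] QuotSMulTop x M :=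
      Submodule.mapQ _ _ LinearMap.id (by
        intro m hm
        obtain ⟨y, -, rfl⟩ := hm
        refine ⟨x ^ k • y, trivial, ?_⟩
        change x • (x ^ k • y) = x ^ (k + 1) • y
        rw [smul_smul, pow_succ'])
    refine isWeaklyRegular_mid rs a b ?_ ?_ ?_ hrk hr
    · rw [injective_iff_map_eq_zero]
      intro q hq
      obtain ⟨m, rfl⟩ := Submodule.Quotient.mk_surjective _ q
      rw [Submodule.mapQ_apply, Submodule.Quotient.mk_eq_zero] at hq
      obtain ⟨y, -, hy : x ^ (k + 1) • y = x • m⟩ := hq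
      rw [pow_succ', mul_smul] at hy
      exact (Submodule.Quotient.mk_eq_zero _).mpr ⟨y, trivial, hx hy⟩
    · intro q
      obtain ⟨m, rfl⟩ := Submodule.Quotient.mk_surjective _ q
      exact ⟨Submodule.Quotient.mk m, Submodule.mapQ_apply _ _ _ _⟩
    · intro q
      obtain ⟨m, rfl⟩ := Submodule.Quotient.mk_surjective _ q
      rw [Submodule.mapQ_apply, LinearMap.id_apply, Submodule.Quotient.mk_eq_zero]
      constructor
      · rintro ⟨y, -, rfl⟩
        exact ⟨Submodule.Quotient.mk y, Submodule.mapQ_apply _ _ _ _⟩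
      · rintro ⟨w, hw⟩
        obtain ⟨y, rfl⟩ := Submodule.Quotient.mk_surjective _ w
        rw [Submodule.mapQ_apply, Submodule.Quotient.eq] at hw
        obtain ⟨z, -, hz : x ^ (k + 1) • z = x • y - m⟩ := hw
        refine ⟨y - x ^ k • z, trivial, ?_⟩
        change x • (y - x ^ k • z) = m
        rw [smul_sub, smul_smul, ← pow_succ', hz, sub_sub_cancel]

/-- Raising the entries of a weakly regular sequence to positive powers keeps it weakly regular. -/
theorem isWeaklyRegular_pow : ∀ (l : List (A × ℕ)) (M : Type v) [AddCommGroup M] [Module A M],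
    (∀ q ∈ l, 1 ≤ q.2) → IsWeaklyRegular M (l.map Prod.fst) → IsWeaklyRegular M (l.map fun q => q.1 ^ q.2) := by
  intro l
  induction l with
  | nil => intro M _ _ _ _; exact IsWeaklyRegular.nil A M
  | cons q l ih =>
    intro M _ _ hl h
    rw [List.map_cons] at h ⊢
    obtain ⟨hq, hr⟩ := (isWeaklyRegular_cons_iff M (q.1 ^ q.2) _).1
      (isWeaklyRegular_pow_head q.1 _ h q.2 (hl q List.mem_cons_self))
    exact (isWeaklyRegular_cons_iff M (q.1 ^ q.2) _).2
      ⟨hq, ih _ (fun q' hq' => hl q' (List.mem_cons_of_mem _ hq')) hr⟩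

/-- In a weakly regular sequence each entry is regular modulo positive powers of the earlier ones. -/
theorem isSMulRegular_getElem_mod_pow (rs : List A) (h : IsWeaklyRegular A rs) (e : ℕ) (he : 1 ≤ e) (i : ℕ)
    (hi : i < rs.length) :
    IsSMulRegular (A ⧸ Ideal.ofList ((rs.take i).map (· ^ e))) rs[i] := by
  let l : List (A × ℕ) := ((rs.take i).map fun y => (y, e)) ++ [(rs[i], 1)]
  have hfst : l.map Prod.fst = rs.take (i + 1) := by
    simp only [l, List.map_append, List.map_map, List.map_cons, List.map_nil, List.take_add_one,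
      List.getElem?_eq_getElem hi, Option.toList_some, Function.comp_def, List.map_id']
  have hpre : IsWeaklyRegular A (rs.take (i + 1)) := by
    rw [← List.take_append_drop (i + 1) rs] at h
    exact ((isWeaklyRegular_append_iff' _ _ _).1 h).1
  have h' := isWeaklyRegular_pow l A (fun q hq => by
    simp only [l, List.mem_append, List.mem_map, List.mem_singleton] at hq
    rcases hq with ⟨y, -, rfl⟩ | rfl
    · exact he
    · exact le_rfl) (hfst ▸ hpre)
  simp only [l, List.map_append, List.map_map, List.map_cons, List.map_nil, Function.comp_def, pow_one] at h'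
  have := ((isWeaklyRegular_append_iff _ _ _).1 h').2
  have h1 := ((isWeaklyRegular_cons_iff _ _ _).1 this).1
  rw [smul_eq_mul, Ideal.mul_top] at h1
  exact h1

end Groth.Agent.RegPow
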