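import Mathlib

/-! Syzygies of homogeneous matrices over a graded Noetherian ring, graded by any group. -/

set_option autoImplicit false

universe u v w

open DirectSum

noncomputable section

namespace Groth.Agent.RegPow

variable {ι : Type v} [DecidableEq ι] [AddCommGroup ι] {A : Type u} [CommRing A] {σ : Type w} [SetLike σ A]
  [AddSubgroupClass σ A] (𝒜 : ι → σ) [GradedRing 𝒜]

/-- The component of a polynomial vector. -/
def vcmp {n : ℕ} (δ : Fin n → ι) (e : ι) (v : Fin n → A) : Fin n → A := fun b => decompose 𝒜 (v b) (e - δ b)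

/-- Homogeneous vectors. -/
def IsHomV {n : ℕ} (δ : Fin n → ι) (e : ι) (v : Fin n → A) : Prop := ∀ b, v b ∈ 𝒜 (e - δ b)

/-- Homogeneous matrices. -/
def IsHomM {n m : ℕ} (δ : Fin n → ι) (ε : Fin m → ι) (D : Matrix (Fin n) (Fin m) A) : Prop :=
  ∀ a b, D a b ∈ 𝒜 (ε b - δ a)

theorem isHomV_vcmp {n : ℕ} (δ : Fin n → ι) (e : ι) (v : Fin n → A) : IsHomV 𝒜 δ e (vcmp 𝒜 δ e v) :=
  fun b => SetLike.coe_mem (decompose 𝒜 (v b) (e - δ b))

theorem exists_sum_vcmp {n : ℕ} (δ : Fin n → ι) (v : Fin n → A) :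
    ∃ s : Finset ι, ∑ e ∈ s, vcmp 𝒜 δ e v = v := by
  classical
  refine ⟨Finset.univ.biUnion fun b => (decompose 𝒜 (v b)).support.image (· + δ b), funext fun b => ?_⟩
  rw [Finset.sum_apply]
  conv_rhs => rw [← DirectSum.sum_support_decompose 𝒜 (v b)]
  simp only [vcmp]
  refine (Finset.sum_subset (s₁ := (decompose 𝒜 (v b)).support.image (· + δ b)) ?_ ?_).symm.trans ?_
  · exact fun e he => Finset.mem_biUnion.2 ⟨b, Finset.mem_univ _, he⟩
  · intro e _ he
    have : e - δ b ∉ (decompose 𝒜 (v b)).support := fun h =>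
      he (Finset.mem_image.2 ⟨e - δ b, h, sub_add_cancel e (δ b)⟩)
    rw [DFinsupp.notMem_support_iff.1 this, ZeroMemClass.coe_zero]
  · rw [Finset.sum_image fun x _ y _ h => add_right_cancel h]
    exact Finset.sum_congr rfl fun x _ => by rw [add_sub_cancel_right x (δ b)]

theorem decompose_mul_hom {a c : A} {i : ι} (ha : a ∈ 𝒜 i) (e : ι) :
    (decompose 𝒜 (a * c) e : A) = a * decompose 𝒜 c (e - i) := by
  conv_lhs => rw [show e = i + (e - i) from (add_sub_cancel i e).symm]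
  exact coe_decompose_mul_add_of_left_mem 𝒜 ha

theorem decompose_sum' {β : Type*} (s : Finset β) (f : β → A) (e : ι) :
    (decompose 𝒜 (∑ b ∈ s, f b) e : A) = ∑ b ∈ s, (decompose 𝒜 (f b) e : A) := by
  classical
  induction s using Finset.induction with
  | empty => simp
  | insert b s hb ih => rw [Finset.sum_insert hb, Finset.sum_insert hb, decompose_add, DirectSum.add_apply,
      AddMemClass.coe_add, ih]

theorem mulVec_vcmp {n m : ℕ} {δ : Fin n → ι} {ε : Fin m → ι} {D : Matrix (Fin n) (Fin m) A}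
    (hD : IsHomM 𝒜 δ ε D) (e : ι) (v : Fin m → A) : D.mulVec (vcmp 𝒜 ε e v) = vcmp 𝒜 δ e (D.mulVec v) := by
  funext a
  simp only [Matrix.mulVec, dotProduct, vcmp]
  rw [decompose_sum']
  refine Finset.sum_congr rfl fun b _ => ?_
  rw [decompose_mul_hom 𝒜 (hD a b), show e - δ a - (ε b - δ a) = e - ε b by abel]

theorem vcmp_of_hom {n : ℕ} {δ : Fin n → ι} {e : ι} {v : Fin n → A} (hv : IsHomV 𝒜 δ e v) :
    vcmp 𝒜 δ e v = v := funext fun b => decompose_of_mem_same 𝒜 (hv b)

/-- A submodule containing the components of its members. -/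
def HomogK {n : ℕ} (δ : Fin n → ι) (K : Submodule A (Fin n → A)) : Prop := ∀ v ∈ K, ∀ e, vcmp 𝒜 δ e v ∈ K

theorem homogK_ker {n m : ℕ} {δ : Fin n → ι} {ε : Fin m → ι} {D : Matrix (Fin n) (Fin m) A}
    (hD : IsHomM 𝒜 δ ε D) : HomogK 𝒜 ε (LinearMap.ker D.mulVecLin) := fun v hv e => by
  rw [LinearMap.mem_ker, Matrix.mulVecLin_apply] at hv ⊢
  rw [mulVec_vcmp 𝒜 hD, hv]
  funext a
  simp [vcmp]

theorem exists_gens [IsNoetherianRing A] {n : ℕ} (δ : Fin n → ι) {K : Submodule A (Fin n → A)}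
    (hK : HomogK 𝒜 δ K) :
    ∃ (m : ℕ) (ε : Fin m → ι) (D : Matrix (Fin n) (Fin m) A),
      IsHomM 𝒜 δ ε D ∧ LinearMap.range D.mulVecLin = K := by
  classical
  let s : Set (Fin n → A) := {v | v ∈ K ∧ ∃ e, IsHomV 𝒜 δ e v}
  have hs : Submodule.span A s = K := le_antisymm (Submodule.span_le.2 fun v hv => hv.1) fun v hv => by
    obtain ⟨t, ht⟩ := exists_sum_vcmp 𝒜 δ v
    rw [← ht]
    exact Submodule.sum_mem _ fun e _ => Submodule.subset_span ⟨hK v hv e, e, isHomV_vcmp 𝒜 δ e v⟩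
  obtain ⟨t, hts, ht⟩ :=
    (Submodule.fg_span_iff_fg_span_finset_subset (R := A) s).1 (IsNoetherian.noetherian _)
  let g : Fin t.card → (Fin n → A) := fun b => (t.equivFin.symm b).1
  have hg : ∀ b, g b ∈ s := fun b => hts (t.equivFin.symm b).2
  choose ε hε using fun b => (hg b).2
  refine ⟨t.card, ε, Matrix.of fun a b => g b a, fun a b => hε b a, ?_⟩
  rw [Matrix.range_mulVecLin]
  have hcol : Set.range (Matrix.of fun a b => g b a).col = (t : Set (Fin n → A)) := by
    ext v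
    constructor
    · rintro ⟨b, rfl⟩
      exact (t.equivFin.symm b).2
    · intro hv
      exact ⟨t.equivFin ⟨v, hv⟩, by funext a; simp [g, Matrix.col]⟩
  rw [hcol, ← ht, hs]

/-- A stage of a resolution: a graded free module with a homogeneous submodule. -/
structure Stage where
  n : ℕ
  δ : Fin n → ι
  K : Submodule A (Fin n → A)
  hK : HomogK 𝒜 δ K

variable {𝒜} [IsNoetherianRing A]

def Stage.m (s : Stage 𝒜) : ℕ := (exists_gens 𝒜 s.δ s.hK).choose

def Stage.ε (s : Stage 𝒜) : Fin s.m → ι := (exists_gens 𝒜 s.δ s.hK).choose_spec.choose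

def Stage.D (s : Stage 𝒜) : Matrix (Fin s.n) (Fin s.m) A :=
  (exists_gens 𝒜 s.δ s.hK).choose_spec.choose_spec.choose

theorem Stage.isHomM (s : Stage 𝒜) : IsHomM 𝒜 s.δ s.ε s.D :=
  (exists_gens 𝒜 s.δ s.hK).choose_spec.choose_spec.choose_spec.1

theorem Stage.range (s : Stage 𝒜) : LinearMap.range s.D.mulVecLin = s.K :=
  (exists_gens 𝒜 s.δ s.hK).choose_spec.choose_spec.choose_spec.2

/-- The syzygy stage. -/
def Stage.next (s : Stage 𝒜) : Stage 𝒜 where
  n := s.m
  δ := s.ε
  K := LinearMap.ker s.D.mulVecLin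
  hK := homogK_ker 𝒜 s.isHomM

/-- The iterated syzygy stages. -/
def Stage.syz (s : Stage 𝒜) : ℕ → Stage 𝒜
  | 0 => s
  | i + 1 => (s.syz i).next

theorem Stage.exact (s : Stage 𝒜) (i : ℕ) :
    LinearMap.ker (s.syz i).D.mulVecLin = LinearMap.range (s.syz (i + 1)).D.mulVecLin :=
  ((s.syz i).next.range).symm

theorem Stage.exact' (s : Stage 𝒜) (i : ℕ) (w : Fin (s.syz (i + 1)).n → A) :
    (s.syz i).D.mulVec w = 0 ↔ ∃ x : Fin (s.syz (i + 2)).n → A, (s.syz (i + 1)).D.mulVec x = w :=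
  SetLike.ext_iff.1 (s.exact i) w

end Groth.Agent.RegPow

namespace Groth.Agent.RegPow

variable {ι : Type v} [DecidableEq ι] [AddCommGroup ι] {A : Type u} [CommRing A] {σ : Type w} [SetLike σ A]
  [AddSubgroupClass σ A] (𝒜 : ι → σ) [GradedRing 𝒜]

/-- Homogeneous vectors span a homogeneous submodule. -/
theorem homogK_span {n : ℕ} (δ : Fin n → ι) (s : Set (Fin n → A)) (hs : ∀ v ∈ s, ∃ e, IsHomV 𝒜 δ e v) :
    HomogK 𝒜 δ (Submodule.span A s) := by
  have key : ∀ x ∈ Submodule.span A s, ∀ (a : A) (e : ι), vcmp 𝒜 δ e (a • x) ∈ Submodule.span A s := by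
    intro x hx
    induction hx using Submodule.span_induction with
    | mem v hv =>
      intro a e
      obtain ⟨i, hi⟩ := hs v hv
      have : vcmp 𝒜 δ e (a • v) = (decompose 𝒜 a (e - i) : A) • v := funext fun b => by
        show (decompose 𝒜 (a * v b) (e - δ b) : A) = _ * v b
        rw [show e - δ b = (e - i) + (i - δ b) by abel, coe_decompose_mul_add_of_right_mem 𝒜 (hi b)]
      rw [this]
      exact Submodule.smul_mem _ _ (Submodule.subset_span hv)
    | zero =>
      intro a e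
      rw [smul_zero, show vcmp 𝒜 δ e (0 : Fin n → A) = 0 from funext fun b => by simp [vcmp]]
      exact zero_mem _
    | add x y _ _ hx hy =>
      intro a e
      rw [smul_add, show vcmp 𝒜 δ e (a • x + a • y) = vcmp 𝒜 δ e (a • x) + vcmp 𝒜 δ e (a • y) from
        funext fun b => by simp [vcmp]]
      exact add_mem (hx a e) (hy a e)
    | smul c x _ hx =>
      intro a e
      rw [smul_smul]
      exact hx _ e
  intro v hv e
  simpa using key v hv 1 e

end Groth.Agent.RegPow
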