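import Groth.Agent.RegPow.Sheaf

/-!
Linear bounds for the regularity of powers of an ideal sheaf with globally generated twist.
-/

set_option autoImplicit false
set_option linter.unusedSectionVars false
set_option linter.style.haveILetI false
set_option backward.isDefEq.respectTransparency false
set_option maxHeartbeats 1000000

universe u

open CategoryTheory CategoryTheory.Limits AlgebraicGeometry MvPolynomial
open Groth.Agent.RegTilde (Ft Cok cokSES cokSES_shortExact hh_Ft isQCoh_Ft dT exact_aug mem_std_of_poly mem_poly_of_std)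

noncomputable section

namespace Groth.Agent.RegPow

variable {k : Type u} [Field k] {r : ℕ}

section Bounded

variable {M : Type u} [AddCommGroup M] [Module k M] [Module (MvPolynomial (Fin (r + 1)) k) M]
  [IsScalarTower k (MvPolynomial (Fin (r + 1)) k) M]
  {ℳ : ℤ → Submodule k M} [DirectSum.Decomposition ℳ] [SetLike.GradedSMul (GrSyz.stdGr k (Fin (r + 1))) ℳ]
  [SetLike.GradedSMul (CohB1.polyGrading r k) (fun n : ℕ => ℳ (n : ℤ))]
  (F : GrSyz.FreeRes (GrSyz.stdGr k (Fin (r + 1))) ℳ)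

theorem hh_Cok_of_le (d : ℤ) (hgen : ∀ i, i ≤ r → ∀ b, F.deg i b ≤ d + i) : ∀ (m q i : ℕ), q + m = r + 1 →
    i < q → Subsingleton (Coh.HH (CohB1.ProjSpace r k)
      (CohB1.tensorMod (Cok F i) (Twist.twistProjSpace r k (d + i - q))) q) := by
  intro m
  induction m with
  | zero =>
    intro q i hq _
    have : Coh.IsQCoh (Cok F i) := Groth.Agent.QC.isQCoh_cokernel (isQCoh_Ft F _) (isQCoh_Ft F _) _
    have : Coh.IsQCoh (CohB1.tensorMod (Cok F i) (Twist.twistProjSpace r k (d + i - q))) :=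
      TMul.isQCoh_tensor (CohFinite.isInvertible_twist r k _) (hF := this)
    exact Groth.Agent.S0022.result r k _ q (by omega)
  | succ m ih =>
    intro q i hq h1
    refine CohFinite.subsingleton_of_shortExact
      (CohFinite.shortExact_tmap (CohFinite.isInvertible_twist r k (d + i - q)) (cokSES_shortExact F i)) q
      (hh_Ft F i (by omega) _ fun b => ?_) ?_
    · have := hgen i (by omega) b
      omega
    · have h := ih (q + 1) (i + 1) (by omega) (by omega)
      rwa [show d + ((i + 1 : ℕ) : ℤ) - ((q + 1 : ℕ) : ℤ) = d + i - q by push_cast; ring] at h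

theorem isMRegular_of_le (d : ℤ) (hgen : ∀ i, i ≤ r → ∀ b, F.deg i b ≤ d + i) :
    Curv2.IsMRegular k r (GrTilde.tilde (CohB1.polyGrading r k) (fun n : ℕ => ℳ (n : ℤ)) 0) d := by
  intro q hq hqr
  let e : Cok F 0 ≅ GrTilde.tilde (CohB1.polyGrading r k) (fun n : ℕ => ℳ (n : ℤ)) 0 :=
    (cokernelIsCokernel (dT F 0)).coconePointUniqueUpToIso (exact_aug F).gIsCokernel
  have h := hh_Cok_of_le F d hgen (r + 1 - q) q 0 (by omega) hq
  rw [Nat.cast_zero, add_zero] at h
  exact CohQC.hh_subsingleton_of_iso (PicGrp.tensorModIso e (Iso.refl _)) _ h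

end Bounded

lemma isMRegular_of_iso {F G : (CohB1.ProjSpace r k).Modules} (e : F ≅ G) {m : ℤ}
    (h : Curv2.IsMRegular k r F m) : Curv2.IsMRegular k r G m := fun q hq hqr =>
  CohQC.hh_subsingleton_of_iso (PicGrp.tensorModIso e (Iso.refl _)) _ (h q hq hqr)

theorem isMRegular_zero {F : (CohB1.ProjSpace r k).Modules} (hF : 𝟙 F = 0) (m : ℤ) :
    Curv2.IsMRegular k r F m := fun q _ _ => by
  refine CohFinite.subsingleton_of_split _ (fun e : Fin 0 => e.elim0) (fun e => e.elim0) (fun e => e.elim0) ?_ q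
    fun e => e.elim0
  rw [Finset.univ_eq_empty, Finset.sum_empty, ← CohFinite.tmap_id, hF, CohFinite.tmap_zero]

/-- The sheaf of a power of an ideal generated by forms of degree `d`. -/
theorem nonempty_iso_pow (I : (CohB1.ProjSpace r k).IdealSheafData) (d : ℕ) {N : ℕ} (f : Fin N → S k r)
    (hf : ∀ j, f j ∈ CohB1.polyGrading r k d) (hI : ∀ i, chI I i = (Ideal.span (Set.range f)).map (dh i)) (p : ℕ) :
    Nonempty (GrTilde.tilde (CohB1.polyGrading r k) (GrT.subPiece (CohB1.polyGrading r k) (Ideal.span (Set.range f) ^ p)) 0 ≅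
      ClSub.idealMod (I ^ p)) := by
  rw [← span_augS]
  refine nonempty_iso_idealMod (I ^ p) (augS f (p : ℤ)) (fun _ => d * p) (fun j => ?_) fun i => ?_
  · refine mem_poly_of_std ?_
    have h := augS_mem d f (p : ℤ) (fun j => mem_std_of_poly (hf j)) j
    have hdeg : degS d f (p : ℤ) 0 j = ((d * p : ℕ) : ℤ) := by
      have hz : ∀ b : Fin (rkB f 0), (dgB f 0 b).1 = 0 := fun b => by
        have hb : b = z0 f := Fin.ext (by have := b.isLt; change b.1 < 1 at this; show b.1 = 0; omega)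
        subst hb
        rfl
      rw [degS, hz, Nat.cast_mul, zero_add]
    rwa [hdeg] at h
  · rw [chI_pow, hI, span_augS, Ideal.map_pow]

/-- `reg (I ^ p) ≤ d p + e`. -/
theorem main (I : (CohB1.ProjSpace r k).IdealSheafData) (d : ℤ)
    (hd : Curv2.IsGloballyGenerated (CohB1.tensorMod (ClSub.idealMod I) (Twist.twistProjSpace r k d))) :
    ∃ e : ℤ, ∀ p : ℕ, 1 ≤ p → ∀ m : ℤ, d * (p : ℤ) + e ≤ m →
      Curv2.IsMRegular k r (ClSub.idealMod (I ^ p)) m := by
  classical
  rcases Nat.eq_zero_or_pos r with rfl | hr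
  · exact ⟨0, fun p _ m _ q hq hqr => absurd hqr (by omega)⟩
  rcases lt_or_ge d 0 with hneg | hpos
  · refine ⟨0, fun p hp m _ => isMRegular_zero ?_ m⟩
    have hι : ClSub.idealModι (I ^ p) = 0 := by
      refine IdealMulSec.hom_eq_zero_of_cover (fun i : ULift.{u} (Fin (r + 1)) => D (k := k) i.down)
        (fun i => isAffine_D i.down) (fun x => ?_) (QC.isQCoh_idealMod _) _ fun i s => ?_
      · obtain ⟨i, hi⟩ := exists_D x
        exact ⟨⟨i⟩, hi⟩
      · have h := (QC.mem_range_idealModι_affine (I ^ p) ⟨D (k := k) i.down, isAffine_D i.down⟩ _).1 ⟨s, rfl⟩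
        change _ ∈ chI (I ^ p) i.down at h
        rw [chI_pow, chI_eq_bot I hr d hneg hd, ← Ideal.zero_eq_bot, zero_pow (by omega : p ≠ 0), Ideal.zero_eq_bot, Ideal.mem_bot] at h
        exact h
    exact (cancel_mono (ClSub.idealModι (I ^ p))).1 (by rw [hι, comp_zero, comp_zero])
  obtain ⟨D', rfl⟩ : ∃ D' : ℕ, d = (D' : ℤ) := ⟨d.toNat, (Int.toNat_of_nonneg hpos).symm⟩
  obtain ⟨N, f, hf, hI⟩ := exists_forms I D' hd
  have hfs : ∀ j, f j ∈ GrSyz.stdGr k (Fin (r + 1)) D' := fun j => mem_std_of_poly (hf j)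
  obtain ⟨e, he⟩ := exists_degree_bound D' f hfs r
  refine ⟨e, fun p _ m hm => ?_⟩
  letI := powDec D' f hfs p
  haveI : SetLike.GradedSMul (GrSyz.stdGr k (Fin (r + 1))) (powGr f p) :=
    GrSyzMin.subGr_gradedSMul _ _
  haveI : SetLike.GradedSMul (CohB1.polyGrading r k) (fun a : ℕ => powGr f p (a : ℤ)) :=
    ⟨fun {a b c x} hc hx => by
      have := SetLike.GradedSMul.smul_mem (A := GrSyz.stdGr k (Fin (r + 1))) (B := powGr f p) (mem_std_of_poly hc) hx
      simpa [vadd_eq_add] using this⟩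
  have h := isMRegular_of_le (powRes D' f hfs p) m fun i hi b =>
    (he p i b hi).trans (by omega)
  have heq : GrT.subPiece (CohB1.polyGrading r k) (Ideal.span (Set.range f) ^ p) = fun a : ℕ => powGr f p (a : ℤ) :=
    funext fun a => Submodule.ext fun x => ⟨mem_std_of_poly, mem_poly_of_std⟩
  obtain ⟨e₁⟩ := tilde_congr (k := k) (r := r) heq
  obtain ⟨e₂⟩ := nonempty_iso_pow I D' f hf hI p
  exact isMRegular_of_iso (e₁.symm ≪≫ e₂) h

end Groth.Agent.RegPow
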