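import Groth.Agent.RegPow.Slice
import Groth.Agent.RegTilde.Main
import Groth.Agent.GrSyzMin.Sub

/-! Resolutions of powers of an ideal with uniformly bounded degrees, and the regularity of their sheaves. -/

set_option autoImplicit false
set_option linter.unusedSectionVars false
set_option linter.style.haveILetI false
set_option backward.isDefEq.respectTransparency false
set_option maxHeartbeats 1000000

universe u

open CategoryTheory CategoryTheory.Limits AlgebraicGeometry MvPolynomial
open Groth.Agent.GrSyzMin (subGr subDec Homog vec comp_lc range_lc)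

noncomputable section

namespace Groth.Agent.RegPow

variable {k : Type u} [Field k] {r N : ℕ} (d : ℕ) (f : Fin N → S k r)

theorem ev_base {v : Fin 1 → MvPolynomial (Fin (r + 1) ⊕ Fin N) k} (hv : v ∈ (base f).K) :
    ev f (Φ r N (v 0)) = 0 := by
  change v ∈ Submodule.span _ _ at hv
  induction hv using Submodule.span_induction with
  | mem v hv => exact hv.2
  | zero => simp
  | add a b _ _ ha hb => rw [Pi.add_apply, map_add, map_add, ha, hb, add_zero]
  | smul c a _ ha => rw [Pi.smul_apply, smul_eq_mul, map_mul, map_mul, ha, mul_zero]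

theorem ev_DP (w : Fin (rkB f 1) → MvPolynomial (Fin N) (S k r)) : ev f ((DP f 0).mulVec w (z0 f)) = 0 := by
  obtain ⟨w, rfl⟩ : ∃ w' : Fin (rkB f 1) → MvPolynomial (Fin (r + 1) ⊕ Fin N) k,
      (fun b => Φ r N (w' b)) = w :=
    ⟨fun b => (Φ r N).symm (w b), funext fun b => (Φ r N).apply_symm_apply _⟩
  rw [DP_mulVec]
  exact ev_base f (v := ((base f).syz 0).D.mulVec w) (by rw [← (base f).range]; exact ⟨w, rfl⟩)

variable (hf : ∀ j, f j ∈ GrSyz.stdGr k (Fin (r + 1)) d)
include hf

theorem ev_mem {c p : ℤ} {u : MvPolynomial (Fin (r + 1) ⊕ Fin N) k} (hu : u ∈ BT k r N (c, p)) :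
    ev f (Φ r N u) ∈ GrSyz.stdGr k (Fin (r + 1)) (c + d * p) := by
  rw [(Φ r N u).as_sum, map_sum]
  refine Submodule.sum_mem _ fun γ hγ => ?_
  obtain ⟨h1, h2⟩ := coeff_Φ_mem hu γ
  rw [show monomial γ (coeff γ (Φ r N u)) = coeff γ (Φ r N u) • monomial γ (1 : S k r) by
    rw [smul_monomial, smul_eq_mul, mul_one], map_smul, smul_eq_mul, ← h2 (mem_support_iff.1 hγ)]
  exact SetLike.mul_mem_graded h1 (ev_monomial_mem d f hf γ)

/-- The relations of degree `p` come from the first stage. -/
theorem exists_lift_rel (p : ℤ) (v : Fin (rkS f p 0) → S k r) (hv : ev f (emb f p 0 v (z0 f)) = 0) :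
    ∃ w, (DP f 0).mulVec w = emb f p 0 v := by
  classical
  let t : Fin 1 → MvPolynomial (Fin (r + 1) ⊕ Fin N) k := fun _ => (Φ r N).symm (emb f p 0 v (z0 f))
  have hcomp : ∀ e : ℤ × ℤ, e.2 ≠ p → (DirectSum.decompose (BT k r N) (t 0) e : MvPolynomial (Fin (r + 1) ⊕ Fin N) k) = 0 := by
    intro e he
    refine MvPolynomial.ext _ _ fun E => ?_
    obtain ⟨ε, γ, rfl⟩ := exists_join r N E
    rw [coeff_decompose, coeff_zero]
    split_ifs with h
    · rw [weight_join] at h
      rw [← coeff_Φ, AlgEquiv.apply_symm_apply]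
      by_contra hne
      have hz : coeff γ (emb f p 0 v (z0 f)) ≠ 0 := fun h0 => hne (by rw [h0, coeff_zero])
      refine he ?_
      rw [← h]
      have := emb_hom f p 0 v (z0 f) hz
      rw [weight_one'] at this
      simpa using this.trans (sub_zero p)
    · rfl
  obtain ⟨s, hs⟩ := exists_sum_vcmp (BT k r N) (fun _ : Fin 1 => (0 : ℤ × ℤ)) t
  have hzero : ∀ e : ℤ × ℤ, ev f (Φ r N (DirectSum.decompose (BT k r N) (t 0) e : MvPolynomial (Fin (r + 1) ⊕ Fin N) k)) = 0 := by
    intro e
    by_cases he : e.2 = p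
    · obtain ⟨c, q⟩ := e
      obtain rfl : q = p := he
      let s' := (DirectSum.decompose (BT k r N) (t 0)).support
      have h0 : ∑ e ∈ s', ev f (Φ r N (DirectSum.decompose (BT k r N) (t 0) e : MvPolynomial (Fin (r + 1) ⊕ Fin N) k)) = 0 := by
        rw [← map_sum, ← map_sum, DirectSum.sum_support_decompose]
        show ev f (Φ r N ((Φ r N).symm _)) = 0
        rw [AlgEquiv.apply_symm_apply, hv]
      have h1 := congrArg (fun x => (DirectSum.decompose (GrSyz.stdGr k (Fin (r + 1))) x (c + d * q) : S k r)) h0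
      simp only [DirectSum.decompose_zero, DirectSum.zero_apply, ZeroMemClass.coe_zero] at h1
      rw [decompose_sum', Finset.sum_eq_single (c, q)] at h1
      · rwa [DirectSum.decompose_of_mem_same _ (ev_mem d f hf (SetLike.coe_mem _))] at h1
      · intro e _ hne
        by_cases he2 : e.2 = q
        · refine DirectSum.decompose_of_mem_ne _ (ev_mem d f hf (c := e.1) (p := e.2) (SetLike.coe_mem _)) fun hd => ?_
          exact hne (Prod.ext (by rw [he2] at hd; exact add_right_cancel hd) he2)
        · rw [hcomp e he2, map_zero, map_zero, DirectSum.decompose_zero, DirectSum.zero_apply, ZeroMemClass.coe_zero]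
      · intro hn
        rw [DFinsupp.notMem_support_iff.1 hn, ZeroMemClass.coe_zero, map_zero, map_zero, DirectSum.decompose_zero,
          DirectSum.zero_apply, ZeroMemClass.coe_zero]
    · rw [hcomp e he, map_zero, map_zero]
  have ht : t ∈ (base f).K := by
    rw [← hs]
    refine Submodule.sum_mem (base f).K fun e _ => ?_
    refine Submodule.subset_span ⟨⟨e, isHomV_vcmp _ _ _ _⟩, ?_⟩
    show ev f (Φ r N (DirectSum.decompose (BT k r N) (t 0) (e - 0) : MvPolynomial (Fin (r + 1) ⊕ Fin N) k)) = 0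
    rw [sub_zero]
    exact hzero e
  rw [← (base f).range] at ht
  obtain ⟨w, hw⟩ := ht
  refine ⟨fun b => Φ r N (w b), ?_⟩
  rw [DP_mulVec]
  funext a
  have ha : a = z0 f := Fin.ext (by have := a.isLt; change a.1 < 1 at this; show a.1 = 0; omega)
  subst ha
  exact (congrArg (Φ r N) (congrFun hw (0 : Fin 1))).trans ((Φ r N).apply_symm_apply _)

omit hf in
theorem aug_linearCombination (p : ℤ) (v : Fin (rkS f p 0) → S k r) :
    Fintype.linearCombination (S k r) (augS f p) v = ev f (emb f p 0 v (z0 f)) := by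
  rw [Fintype.linearCombination_apply]
  exact augS_eq f p v

omit hf in
/-- The powers of the ideal are spanned by the monomials in the generators. -/
theorem pow_eq_span (n : ℕ) :
    Ideal.span (Set.range f) ^ n = Ideal.span ((fun γ => ev f (monomial γ 1)) '' {γ : Fin N →₀ ℕ | γ.degree = n}) := by
  induction n with
  | zero =>
    rw [pow_zero, Ideal.one_eq_top]
    rw [eq_comm, Ideal.eq_top_iff_one]
    refine Ideal.subset_span ⟨0, map_zero _, ?_⟩
    simp [ev]
  | succ n ih =>
    rw [pow_succ, ih, Ideal.span_mul_span']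
    refine le_antisymm (Ideal.span_le.2 ?_) (Ideal.span_le.2 ?_)
    · rintro _ ⟨_, ⟨γ, hγ, rfl⟩, _, ⟨j, rfl⟩, rfl⟩
      refine Ideal.subset_span ⟨γ + Finsupp.single j 1, ?_, ?_⟩
      · show (γ + Finsupp.single j 1).degree = n + 1
        rw [map_add, Finsupp.degree_single]
        exact congrArg (· + 1) hγ
      · simp [ev, monomial_add_single]
    · rintro _ ⟨γ, hγ, rfl⟩
      have hne : γ ≠ 0 := fun h => by
        subst h
        exact absurd (hγ.symm.trans (map_zero _)) (Nat.succ_ne_zero n)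
      obtain ⟨j, hj⟩ := Finsupp.ne_iff.1 hne
      have hsplit : γ = (γ - Finsupp.single j 1) + Finsupp.single j 1 :=
        (tsub_add_cancel_of_le (Finsupp.single_le_iff.2 (Nat.one_le_iff_ne_zero.2 hj))).symm
      refine Ideal.subset_span (Set.mem_mul.2 ⟨ev f (monomial (γ - Finsupp.single j 1) 1),
        ⟨γ - Finsupp.single j 1, ?_, rfl⟩, f j, ⟨j, rfl⟩, ?_⟩)
      · show (γ - Finsupp.single j 1).degree = n
        have h2 := congrArg Finsupp.degree hsplit
        rw [map_add, Finsupp.degree_single] at h2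
        have hγ' : γ.degree = n + 1 := hγ
        omega
      · show _ = ev f (monomial γ 1)
        conv_rhs => rw [hsplit]
        simp [ev, monomial_add_single]

omit hf in
theorem span_augS (n : ℕ) :
    Ideal.span (Set.range (augS f (n : ℤ))) = Ideal.span (Set.range f) ^ n := by
  rw [pow_eq_span]
  congr 1
  ext x
  constructor
  · rintro ⟨j, rfl⟩
    obtain ⟨⟨b, γ, hγ⟩, rfl⟩ := (num f (n : ℤ) 0).surjective j
    refine ⟨γ, ?_, by rw [augS, Equiv.symm_apply_apply]⟩
    have : (γ.degree : ℤ) = (n : ℤ) - 0 := mem_expts.1 hγ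
    show γ.degree = n
    omega
  · rintro ⟨γ, hγ, rfl⟩
    have hm : γ ∈ expts ((n : ℤ) - (dgB f 0 (z0 f)).2) := mem_expts.2 (by
      show (γ.degree : ℤ) = (n : ℤ) - 0
      rw [sub_zero]
      exact_mod_cast hγ)
    exact ⟨num f (n : ℤ) 0 ⟨z0 f, ⟨γ, hm⟩⟩, by rw [augS, Equiv.symm_apply_apply]⟩

/-- The grading of a power. -/
abbrev powGr (n : ℕ) : ℤ → Submodule k ↥(Ideal.span (Set.range f) ^ n) :=
  subGr (GrSyz.stdGr k (Fin (r + 1))) (Ideal.span (Set.range f) ^ n)

theorem homog_pow (n : ℕ) : Homog (GrSyz.stdGr k (Fin (r + 1))) (Ideal.span (Set.range f) ^ n) := by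
  intro x hx e
  rw [← span_augS] at hx ⊢
  obtain ⟨v, rfl⟩ : x ∈ LinearMap.range (Fintype.linearCombination (S k r) (augS f (n : ℤ))) := by
    rw [range_lc]; exact hx
  rw [comp_lc (GrSyz.stdGr k (Fin (r + 1))) (fun j => augS_mem d f (n : ℤ) hf j)]
  have : Fintype.linearCombination (S k r) (augS f (n : ℤ))
      (GrSyzHilb.comp (vec (degS d f (n : ℤ) 0)) e v) ∈
      LinearMap.range (Fintype.linearCombination (S k r) (augS f (n : ℤ))) := ⟨_, rfl⟩
  rw [range_lc] at this
  exact this

/-- The decomposition of a power. -/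
@[instance_reducible]
def powDec (n : ℕ) : DirectSum.Decomposition (powGr f n) := subDec _ _ (homog_pow d f hf n)

/-- The resolution of a power. -/
def powRes (n : ℕ) :
    letI := powDec d f hf n
    GrSyz.FreeRes (GrSyz.stdGr k (Fin (r + 1))) (powGr f n) :=
  letI := powDec d f hf n
  { rk := rkS f (n : ℤ)
    deg := degS d f (n : ℤ)
    d := fun i => LinearMap.toMatrix' (dS f (n : ℤ) i)
    aug := fun j => ⟨augS f (n : ℤ) j, span_augS f n ▸ Ideal.subset_span ⟨j, rfl⟩⟩
    d_mem := fun i a b => dS_mem d f (n : ℤ) i a b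
    aug_mem := fun j => augS_mem d f (n : ℤ) hf j
    aug_surjective := fun x => by
      obtain ⟨v, hv⟩ : (x : S k r) ∈ LinearMap.range (Fintype.linearCombination (S k r) (augS f (n : ℤ))) := by
        rw [range_lc, ← Ideal.span, span_augS]
        exact x.2
      refine ⟨v, Subtype.ext (Eq.trans ?_ hv)⟩
      simp [Fintype.linearCombination_apply]
    exact_zero := by
      rw [← Matrix.toLin'_apply', Matrix.toLin'_toMatrix']
      ext v
      rw [LinearMap.mem_ker, LinearMap.mem_range]
      have hval : Subtype.val (Fintype.linearCombination (S k r) (fun j => (⟨augS f (n : ℤ) j,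
          span_augS f n ▸ Ideal.subset_span ⟨j, rfl⟩⟩ : ↥(Ideal.span (Set.range f) ^ n))) v) =
          ev f (emb f (n : ℤ) 0 v (z0 f)) := by
        rw [← aug_linearCombination]
        simp [Fintype.linearCombination_apply]
      rw [← Submodule.coe_eq_zero, hval]
      constructor
      · intro h
        obtain ⟨w, hw⟩ := exists_lift_rel d f hf (n : ℤ) v h
        refine ⟨ext f (n : ℤ) 1 w, ?_⟩
        rw [← ext_emb f (n : ℤ) 0 v, ← ext_emb f (n : ℤ) 0 (dS f (n : ℤ) 0 _), emb_dS, emb_ext,
          mulVec_vcmp _ (DP_hom f 0), hw, vcmp_of_hom _ (emb_hom f (n : ℤ) 0 v)]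
      · rintro ⟨w, rfl⟩
        rw [emb_dS]
        exact ev_DP f _
    exact_succ := fun i => by
      rw [← Matrix.toLin'_apply', Matrix.toLin'_toMatrix', ← Matrix.toLin'_apply', Matrix.toLin'_toMatrix']
      exact dS_exact f (n : ℤ) i }

/-- The degrees in the first `m` steps of the resolutions of all powers are bounded uniformly. -/
theorem exists_degree_bound (m : ℕ) :
    ∃ e : ℤ, ∀ (n i : ℕ) (j : Fin (rkS f (n : ℤ) i)), i ≤ m → degS d f (n : ℤ) i j ≤ (d : ℤ) * n + e + i := by
  classical
  let X : Type := Σ i : Fin (m + 1), Fin (rkB f i)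
  obtain ⟨e, he⟩ := (Set.finite_range fun x : X => (dgB f x.1 x.2).1 - (x.1 : ℕ)).bddAbove
  refine ⟨e, fun n i j hi => ?_⟩
  have h := he ⟨⟨⟨i, by omega⟩, ((num f (n : ℤ) i).symm j).1⟩, rfl⟩
  simp only [degS] at h ⊢
  omega

end Groth.Agent.RegPow
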