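import Groth.Agent.RegPow.Powers
import Groth.Agent.GrT.SubMod
import Groth.Agent.GrT.Dehom
import Groth.Agent.GrT.TwistTensor
import Groth.Agent.QC.IdealMod
import Groth.Agent.IdealMulSec.ArtinRees
import Groth.Agent.BlowReg.GG
import Groth.Agent.PicPn.Main
import Groth.Agent.CohFinite.AmpleFinite
import Groth.Agent.ProjCech.Main
import Groth.Agent.S10908
import Mathlib.RingTheory.Polynomial.RationalRoot
import Mathlib.RingTheory.Polynomial.UniqueFactorization
import Groth.Prelude.Def_ClSub2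

/-!
Powers of an ideal sheaf on projective space as sheaves of powers of a homogeneous ideal.
-/

set_option autoImplicit false
set_option linter.unusedSectionVars false
set_option linter.style.haveILetI false
set_option backward.isDefEq.respectTransparency false
set_option maxHeartbeats 1000000

universe u

open CategoryTheory CategoryTheory.Limits AlgebraicGeometry MvPolynomial
open Groth.Agent.QC (res resO app_res res_self resO_self)

noncomputable section

namespace Groth.Agent.RegPow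

variable {k : Type u} [Field k] {r : ℕ}

local notation "𝒜" => CohB1.polyGrading r k
local notation "P" => CohB1.ProjSpace r k

lemma X_mem (i : Fin (r + 1)) : (X i : S k r) ∈ CohB1.polyGrading r k 1 :=
  isHomogeneous_X k i

lemma hgen (i : ℕ) : CohB1.polyGrading r k 1 * CohB1.polyGrading r k i = CohB1.polyGrading r k (i + 1) := by
  change homogeneousSubmodule (Fin (r + 1)) k 1 * homogeneousSubmodule (Fin (r + 1)) k i =
    homogeneousSubmodule (Fin (r + 1)) k (i + 1)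
  rw [← homogeneousSubmodule_one_pow (σ := Fin (r + 1)) (R := k) i, ← homogeneousSubmodule_one_pow (σ := Fin (r + 1)) (R := k) (i + 1), pow_succ']

/-- The standard chart. -/
abbrev D (i : Fin (r + 1)) : (CohB1.ProjSpace r k).Opens := Proj.basicOpen (CohB1.polyGrading r k) (X i)

lemma isAffine_D (i : Fin (r + 1)) : IsAffineOpen (D (k := k) i) :=
  ProjLib.isAffineOpen_basicOpen 𝒜 (X_mem i) one_pos

lemma exists_D (x : CohB1.ProjSpace r k) : ∃ i, x ∈ D (k := k) i := by
  obtain ⟨f, hf, hfx⟩ := CohFinite.cov_one r k x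
  by_contra hne
  simp only [not_exists] at hne
  refine hfx ?_
  have hle : homogeneousSubmodule (Fin (r + 1)) k 1 ≤ (x.asHomogeneousIdeal.toIdeal).restrictScalars k := by
    rw [homogeneousSubmodule_one_eq_span_X, Submodule.span_le]
    rintro _ ⟨i, rfl⟩
    by_contra hi
    exact hne i ((ProjectiveSpectrum.mem_basicOpen 𝒜 _ x).mpr hi)
  exact hle hf

/-- The dehomogenisation in a chart. -/
abbrev dh (i : Fin (r + 1)) : S k r →+* Γ(CohB1.ProjSpace r k, D (k := k) i) := GrT.deh 𝒜 (X_mem i)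

/-- The ideal of a chart. -/
abbrev chI (I : (CohB1.ProjSpace r k).IdealSheafData) (i : Fin (r + 1)) :
    Ideal Γ(CohB1.ProjSpace r k, D (k := k) i) := I.ideal ⟨D i, isAffine_D i⟩

lemma chI_pow (I : (CohB1.ProjSpace r k).IdealSheafData) (m : ℕ) (i : Fin (r + 1)) :
    chI (I ^ m) i = chI I i ^ m := by
  simp only [chI, Scheme.IdealSheafData.ideal_pow, Pi.pow_apply]

/-- The unit section of `O(0)`. -/
def e0 : Γ(GrTilde.tilde (CohB1.polyGrading r k) (CohB1.polyGrading r k) 0, ⊤) :=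
  GrT.twistGen 𝒜 (SetLike.one_mem_graded 𝒜) (SetLike.one_mem_graded 𝒜) (N := 0) rfl
    (U := ⊤) (Proj.basicOpen_one 𝒜).ge

lemma isGen_e0 : TMul.IsGen (e0 (k := k) (r := r)) :=
  GrT.twistGen_bijective 𝒜 (SetLike.one_mem_graded 𝒜) (SetLike.one_mem_graded 𝒜) (N := 0) rfl
    (Proj.basicOpen_one 𝒜).ge (Proj.basicOpen_one 𝒜).ge

/-- Functions as sections of `O(0)`. -/
def psi : Coh.structureModule (CohB1.ProjSpace r k) ⟶ GrTilde.tilde (CohB1.polyGrading r k) (CohB1.polyGrading r k) 0 :=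
  TMul.homOf (e0 (k := k) (r := r))

/-- `O ≅ O(0)`. -/
def psiIso : Coh.structureModule (CohB1.ProjSpace r k) ≅ GrTilde.tilde (CohB1.polyGrading r k) (CohB1.polyGrading r k) 0 :=
  @asIso _ _ _ _ (psi (k := k) (r := r)) (PicPn.isIso_homOf isGen_e0)

lemma pt_psi {V : (CohB1.ProjSpace r k).Opens} (c : Γ(CohB1.ProjSpace r k, V)) (y : V) :
    GrT.pt 𝒜 𝒜 ((psi (k := k) (r := r)).app V c) y = GrT.pO 𝒜 c y := by
  have h : (psi (k := k) (r := r)).app V c =
      c • res (GrTilde.tilde 𝒜 𝒜 0) (le_top : V ≤ ⊤) (e0 (k := k) (r := r)) := by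
    refine (TMul.app_eq_smul _ c).trans ?_
    rw [psi, TMul.val_homOf]
  rw [h]
  change GrT.pO 𝒜 c y * (Localization.mk (1 : S k r) ⟨1, _⟩ : Twist.Loc 𝒜 y.1) = _
  exact (congrArg (GrT.pO 𝒜 c y * ·) Localization.mk_one).trans (mul_one _)

lemma tilde_congr {M : Type u} [AddCommGroup M] [Module k M] [Module (S k r) M] {ℳ ℳ' : ℕ → Submodule k M}
    [SetLike.GradedSMul (CohB1.polyGrading r k) ℳ] [SetLike.GradedSMul (CohB1.polyGrading r k) ℳ'] (h : ℳ = ℳ') :
    Nonempty (GrTilde.tilde 𝒜 ℳ 0 ≅ GrTilde.tilde 𝒜 ℳ' 0) := by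
  subst h
  exact ⟨Iso.refl _⟩

/-- An ideal sheaf is the sheaf of a homogeneous ideal with the same dehomogenisations. -/
theorem nonempty_iso_idealMod (J : (CohB1.ProjSpace r k).IdealSheafData) {κ : Type*} [Finite κ] (g : κ → S k r)
    (e : κ → ℕ) (hg : ∀ j, g j ∈ CohB1.polyGrading r k (e j))
    (hJ : ∀ i, chI J i = (Ideal.span (Set.range g)).map (dh i)) :
    Nonempty (GrTilde.tilde 𝒜 (GrT.subPiece (CohB1.polyGrading r k) (Ideal.span (Set.range g))) 0 ≅
      ClSub.idealMod J) := by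
  letI := GrT.subDecomposition (CohB1.polyGrading r k) (Ideal.span (Set.range g))
    (fun z hz a => GrT.component_mem_span 𝒜 𝒜 e g hg hz a)
  let N := Ideal.span (Set.range g)
  haveI hmono : Mono (GrT.subTilde 𝒜 𝒜 N) :=
    (QC.mono_iff_app_injective _).mpr fun W s t h => GrT.pt_ext 𝒜 _ fun y =>
      GrT.subLoc_injective 𝒜 N y.1 ((GrT.pt_subTilde 𝒜 𝒜 N s y).symm.trans
        ((congrArg (fun q => GrT.pt 𝒜 𝒜 q y) h).trans (GrT.pt_subTilde 𝒜 𝒜 N t y)))
  let φ := GrT.subTilde 𝒜 𝒜 N ≫ (psiIso (k := k) (r := r)).inv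
  have hsub : ∀ (W : (CohB1.ProjSpace r k).Opens) s, (psi (k := k) (r := r)).app W (φ.app W s) =
      (GrT.subTilde 𝒜 𝒜 N).app W s := fun W s => by
    rw [← ConcreteCategory.comp_apply, ← Scheme.Modules.Hom.comp_app]
    show ((GrT.subTilde 𝒜 𝒜 N ≫ (psiIso (k := k) (r := r)).inv) ≫ (psiIso (k := k) (r := r)).hom).app W s = _
    rw [Category.assoc, Iso.inv_hom_id, Category.comp_id]
  have hinj : ∀ W : (CohB1.ProjSpace r k).Opens, Function.Injective ((psi (k := k) (r := r)).app W) :=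
    (QC.mono_iff_app_injective _).mp (inferInstanceAs (Mono (psiIso (k := k) (r := r)).hom))
  have hpt : ∀ (i : Fin (r + 1)) {a : ℕ} {z : S k r} (hz : z ∈ CohB1.polyGrading r k a) (y : D (k := k) i)
      (hy : (X i : S k r) ^ a ∉ y.1.asHomogeneousIdeal),
      GrT.pt 𝒜 𝒜 ((psi (k := k) (r := r)).app (D i) (dh i z)) y = GrT.fr 𝒜 y.1 z (X i ^ a) hy := by
    intro i a z hz y hy
    rw [pt_psi, ← resO_self le_rfl (dh i z)]
    exact GrT.pO_deh 𝒜 (X_mem i) hz le_rfl y hy
  have hrange : ∀ i, LinearMap.range (QC.appₗ φ (D i)) =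
      LinearMap.range (QC.appₗ (ClSub.idealModι J) (D i)) := by
    intro i
    have hle : N.map (dh i) ≤ LinearMap.range (QC.appₗ φ (D i)) := by
      show (Ideal.span (Set.range g)).map (dh i) ≤ _
      rw [Ideal.map_span, Ideal.span_le]
      rintro _ ⟨_, ⟨j, rfl⟩, rfl⟩
      have hy : ∀ y : D (k := k) i, (X i : S k r) ^ e j ∉ y.1.asHomogeneousIdeal := fun y =>
        GrT.not_mem_pow 𝒜 (GrT.not_mem_of_mem 𝒜 le_rfl y) _
      let s : Γ(GrTilde.tilde 𝒜 (GrT.subPiece (CohB1.polyGrading r k) N) 0, D (k := k) i) :=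
        GrT.fracSect 𝒜 (GrT.subPiece (CohB1.polyGrading r k) N) 0
          (a := (⟨g j, Ideal.subset_span ⟨j, rfl⟩⟩ : N)) (hg j) (GrT.pow_mem_one 𝒜 (X_mem i) (e j))
          (by simp) (D i) hy
      refine ⟨s, hinj _ ((hsub _ s).trans (GrT.pt_ext 𝒜 𝒜 fun y => ?_))⟩
      rw [GrT.pt_subTilde, hpt i (hg j) y (hy y)]
      exact GrT.subLoc_fr 𝒜 N y.1 _ _
    refine le_antisymm ?_ fun t ht => hle ?_
    · rintro _ ⟨s, rfl⟩
      refine (QC.mem_range_idealModι_affine J ⟨D i, isAffine_D i⟩ (φ.app (D i) s : Γ(CohB1.ProjSpace r k, D (k := k) i))).2 ?_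
      obtain ⟨b, a, z, hb, hz, hs⟩ := GrT.exists_frac_basicOpen 𝒜 (GrT.subPiece (CohB1.polyGrading r k) N) 0
        one_pos (X_mem i) (s : GrTilde.sect 𝒜 (GrT.subPiece (CohB1.polyGrading r k) N) 0 (Opposite.op (D i)))
      obtain rfl : a = b := by omega
      rw [show J.ideal ⟨D i, isAffine_D i⟩ = _ from hJ i, show φ.app (D i) s = dh i (z : S k r) from hinj _ ((hsub _ s).trans (GrT.pt_ext 𝒜 𝒜 fun y => ?_))]
      · exact Ideal.mem_map_of_mem _ z.2
      · have hy := GrT.not_mem_pow 𝒜 (GrT.not_mem_of_mem 𝒜 le_rfl y) a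
        rw [GrT.pt_subTilde, hpt i (z := (z : S k r)) hz y hy, show GrT.pt 𝒜 (GrT.subPiece (CohB1.polyGrading r k) N) s y = _ from hs y hy]
        exact GrT.subLoc_fr 𝒜 N y.1 _ _
    · rw [← hJ i]
      exact (QC.mem_range_idealModι_affine J ⟨D i, isAffine_D i⟩ t).1 ht
  haveI : Mono φ := mono_comp _ _
  let U : ULift.{u} (Fin (r + 1)) → (CohB1.ProjSpace r k).Opens := fun i => D i.down
  have hcov : ∀ x : CohB1.ProjSpace r k, ∃ i, x ∈ U i := fun x => by
    obtain ⟨i, hi⟩ := exists_D x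
    exact ⟨⟨i⟩, hi⟩
  have h1 := IdealMulSec.mk_le_mk U (fun i => isAffine_D i.down) hcov
    (GrT.isQCoh_tilde 𝒜 (GrT.subPiece (CohB1.polyGrading r k) N) 0) φ (ClSub.idealModι J) fun i => (hrange i.down).le
  have h2 := IdealMulSec.mk_le_mk U (fun i => isAffine_D i.down) hcov
    (QC.isQCoh_idealMod J) (ClSub.idealModι J) φ fun i => (hrange i.down).ge
  exact ⟨Subobject.isoOfMkEqMk _ _ (le_antisymm h1 h2)⟩

/-- A local section of an ideal as a function. -/
def iv (I : (CohB1.ProjSpace r k).IdealSheafData) (U : (CohB1.ProjSpace r k).Opens)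
    (a : Γ(ClSub.idealMod I, U)) : Γ(CohB1.ProjSpace r k, U) :=
  (ClSub.idealModι I).app U a

/-- Multiplication of a section of `O(d)` by one of the ideal. -/
def inclBil (I : (CohB1.ProjSpace r k).IdealSheafData) (d : ℤ) (U : (CohB1.ProjSpace r k).Opens) :
    Γ(ClSub.idealMod I, U) →ₗ[Γ(CohB1.ProjSpace r k, U)]
      Γ(Twist.twistProjSpace r k d, U) →ₗ[Γ(CohB1.ProjSpace r k, U)] Γ(Twist.twistProjSpace r k d, U) :=
  LinearMap.mk₂ _ (fun a s => iv I U a • s)
    (fun a b s => by rw [iv, map_add]; exact add_smul _ _ _)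
    (fun c a s => by rw [iv, Scheme.Modules.Hom.app_smul]; exact mul_smul _ _ _)
    (fun a s t => smul_add _ _ _)
    (fun c a s => smul_comm _ _ _)

lemma inclBil_res (I : (CohB1.ProjSpace r k).IdealSheafData) (d : ℤ) {V U : (CohB1.ProjSpace r k).Opens} (h : V ≤ U)
    (a : Γ(ClSub.idealMod I, U)) (s : Γ(Twist.twistProjSpace r k d, U)) :
    res (Twist.twistProjSpace r k d) h (inclBil I d U a s) =
      inclBil I d V (res (ClSub.idealMod I) h a) (res (Twist.twistProjSpace r k d) h s) := by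
  simp only [inclBil, LinearMap.mk₂_apply]
  rw [QC.res_smul]
  exact congrArg (· • _) (app_res (ClSub.idealModι I) h a)

/-- The comparison `I(d) ⟶ O(d)`. -/
def incl (I : (CohB1.ProjSpace r k).IdealSheafData) (d : ℤ) :
    CohB1.tensorMod (ClSub.idealMod I) (Twist.twistProjSpace r k d) ⟶ Twist.twistProjSpace r k d :=
  TMul.lift (inclBil I d) fun h a s => inclBil_res I d h a s

lemma incl_tm (I : (CohB1.ProjSpace r k).IdealSheafData) (d : ℤ) {U : (CohB1.ProjSpace r k).Opens}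
    (a : Γ(ClSub.idealMod I, U)) (s : Γ(Twist.twistProjSpace r k d, U)) :
    (incl I d).app U (TMul.tm a s) = iv I U a • s :=
  TMul.lift_tm (inclBil I d) (fun h a s => inclBil_res I d h a s) a s

lemma gen_hU (d : ℤ) (i : Fin (r + 1)) (m : ℕ) : D (k := k) i ≤ Proj.basicOpen 𝒜 ((X i : S k r) ^ m) := fun y hy =>
  (ProjectiveSpectrum.mem_basicOpen 𝒜 _ y).mpr
    (GrT.not_mem_pow 𝒜 ((ProjectiveSpectrum.mem_basicOpen 𝒜 _ y).mp hy) m)

/-- The generator of `O(d)` in a chart. -/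
def gen (d : ℤ) (i : Fin (r + 1)) : Γ(Twist.twistProjSpace r k d, D (k := k) i) :=
  GrT.twistGen 𝒜 (GrT.pow_mem_one 𝒜 (X_mem i) d.toNat) (GrT.pow_mem_one 𝒜 (X_mem i) (-d).toNat)
    (N := d) (by omega) (gen_hU d i _)

lemma isGen_gen (d : ℤ) (i : Fin (r + 1)) : TMul.IsGen (gen (k := k) d i) :=
  GrT.twistGen_bijective 𝒜 (GrT.pow_mem_one 𝒜 (X_mem i) d.toNat) (GrT.pow_mem_one 𝒜 (X_mem i) (-d).toNat)
    (N := d) (by omega) (gen_hU d i _) (gen_hU d i _)

/-- Coefficients of the global sections of `I(d)` generate `I` in each chart. -/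
theorem chI_le (I : (CohB1.ProjSpace r k).IdealSheafData) (d : ℤ)
    (hd : Curv2.IsGloballyGenerated (CohB1.tensorMod (ClSub.idealMod I) (Twist.twistProjSpace r k d)))
    (i : Fin (r + 1)) (M : Ideal Γ(CohB1.ProjSpace r k, D (k := k) i))
    (hM : ∀ (w : Γ(Twist.twistProjSpace r k d, ⊤)),
      (∀ j, ∃ c ∈ chI I j, res (Twist.twistProjSpace r k d) le_top w = c • gen (k := k) d j) →
      ∀ c, res (Twist.twistProjSpace r k d) le_top w = c • gen (k := k) d i → c ∈ M) :
    chI I i ≤ M := by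
  let F := CohB1.tensorMod (ClSub.idealMod I) (Twist.twistProjSpace r k d)
  have hq : Coh.IsQCoh F :=
    TMul.isQCoh_tensor (CohFinite.isInvertible_twist r k d) (hF := QC.isQCoh_idealMod I)
  haveI : F.IsQuasicoherent := hq
  have hbij : ∀ j : Fin (r + 1), Function.Bijective
      fun a : Γ(ClSub.idealMod I, D (k := k) j) => TMul.tm a (gen (k := k) d j) := fun j => by
    have h := TMul.tm_bijective (M := ClSub.idealMod I) (isGen_gen (k := k) d j) (D j) le_rfl
    rwa [res_self] at h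
  have hmem : ∀ (j : Fin (r + 1)) (a : Γ(ClSub.idealMod I, D (k := k) j)),
      iv I (D j) a ∈ chI I j := fun j a =>
    (QC.mem_range_idealModι_affine I ⟨D j, isAffine_D j⟩ _).1 ⟨a, rfl⟩
  have hσ : ∀ (σ : Γ(F, ⊤)) (j : Fin (r + 1)), ∃ a, TMul.tm a (gen (k := k) d j) = res F le_top σ ∧
      res (Twist.twistProjSpace r k d) le_top ((incl I d).app ⊤ σ) =
        iv I (D j) a • gen (k := k) d j := by
    intro σ j
    obtain ⟨a, ha⟩ := (hbij j).2 (res F le_top σ)
    refine ⟨a, ha, ?_⟩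
    refine (app_res (incl I d) le_top σ).trans ?_
    exact (congrArg _ ha.symm).trans (incl_tm I d a _)
  have hspan := BlowReg.genOn_of_gg hd (isAffine_D (k := k) i)
  intro c hc
  obtain ⟨a, rfl⟩ := (QC.mem_range_idealModι_affine I ⟨D i, isAffine_D i⟩ c).2 hc
  have hx : TMul.tm a (gen (k := k) d i) ∈
      Submodule.span Γ(CohB1.ProjSpace r k, D (k := k) i) (Set.range (res F (le_top : D (k := k) i ≤ ⊤))) := by
    rw [hspan]; trivial
  suffices ∀ x ∈ Submodule.span Γ(CohB1.ProjSpace r k, D (k := k) i) (Set.range (res F (le_top : D (k := k) i ≤ ⊤))),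
      ∃ b, TMul.tm b (gen (k := k) d i) = x ∧ iv I (D i) b ∈ M by
    obtain ⟨b, hb, hbM⟩ := this _ hx
    rwa [(hbij i).1 hb] at hbM
  intro x hx
  induction hx using Submodule.span_induction with
  | mem x hx =>
    obtain ⟨σ, rfl⟩ := hx
    obtain ⟨b, hb, hb'⟩ := hσ σ i
    refine ⟨b, hb, hM _ (fun j => ?_) _ hb'⟩
    obtain ⟨b', -, hb''⟩ := hσ σ j
    exact ⟨_, hmem j b', hb''⟩
  | zero => exact ⟨0, TMul.zero_tm _, by rw [iv, map_zero]; exact M.zero_mem⟩
  | add x y _ _ hx hy =>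
    obtain ⟨b, rfl, hb⟩ := hx
    obtain ⟨b', rfl, hb'⟩ := hy
    exact ⟨b + b', TMul.tm_add _ _ _, by rw [iv, map_add]; exact M.add_mem hb hb'⟩
  | smul c x _ hx =>
    obtain ⟨b, rfl, hb⟩ := hx
    exact ⟨c • b, TMul.smul_tm _ _ _, by rw [iv, Scheme.Modules.Hom.app_smul]; exact M.mul_mem_left c hb⟩

/-- A negative twist of an ideal is globally generated only for the zero ideal. -/
theorem chI_eq_bot (I : (CohB1.ProjSpace r k).IdealSheafData) (hr : 1 ≤ r) (d : ℤ) (hneg : d < 0)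
    (hd : Curv2.IsGloballyGenerated (CohB1.tensorMod (ClSub.idealMod I) (Twist.twistProjSpace r k d)))
    (i : Fin (r + 1)) : chI I i = ⊥ := by
  refine le_bot_iff.1 (chI_le I d hd i ⊥ fun w _ c hc => ?_)
  letI : (CohB1.ProjSpace r k).Over (Spec (CommRingCat.of k)) := ⟨CohB1.ProjSpace.toSpec r k⟩
  obtain ⟨e, -⟩ := CohFinite.exists_zero_equiv k (Twist.twistProjSpace r k d)
  haveI : Subsingleton (Coh.HH (CohB1.ProjSpace r k) (Twist.twistProjSpace r k d) 0) :=
    ProjCech.twist_vanish r d 0 (by omega) (by omega)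
  have h0 : w = 0 := e.symm.injective (Subsingleton.elim _ _)
  rw [h0, map_zero] at hc
  refine (isGen_gen (k := k) d i (D i) le_rfl).1 ?_
  change c • res _ le_rfl _ = (0 : Γ(CohB1.ProjSpace r k, D (k := k) i)) • _
  rw [res_self, zero_smul, ← hc]

/-- An ideal sheaf with globally generated twist comes from finitely many forms of that degree. -/
theorem exists_forms (I : (CohB1.ProjSpace r k).IdealSheafData) (d : ℕ)
    (hd : Curv2.IsGloballyGenerated (CohB1.tensorMod (ClSub.idealMod I) (Twist.twistProjSpace r k (d : ℤ)))) :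
    ∃ (N : ℕ) (f : Fin N → S k r), (∀ j, f j ∈ CohB1.polyGrading r k d) ∧
      ∀ i, chI I i = (Ideal.span (Set.range f)).map (dh i) := by
  classical
  let Jd : Set (S k r) := {z | z ∈ CohB1.polyGrading r k d ∧ ∀ i, dh i z ∈ chI I i}
  obtain ⟨t, ht, hspan⟩ := (Submodule.fg_span_iff_fg_span_finset_subset Jd).1
    (IsNoetherian.noetherian (Ideal.span Jd))
  refine ⟨t.card, fun j => (t.equivFin.symm j).1, fun j => (ht (t.equivFin.symm j).2).1, fun i => ?_⟩
  have hr : Set.range (fun j => (t.equivFin.symm j).1) = (t : Set (S k r)) := by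
    ext z
    exact ⟨fun ⟨j, hj⟩ => hj ▸ (t.equivFin.symm j).2, fun hz => ⟨t.equivFin ⟨z, hz⟩, by simp⟩⟩
  have hJ : Ideal.span (Set.range fun j => (t.equivFin.symm j).1) = Ideal.span Jd := by rw [hr]; exact hspan.symm
  rw [hJ]
  refine le_antisymm (chI_le I d hd i _ fun w hw c hc => ?_)
    (by rw [Ideal.map_span, Ideal.span_le]; rintro _ ⟨z, hz, rfl⟩; exact hz.2 i)
  have h1 : CohB1.polyGrading r k 1 ≠ ⊥ := fun h =>
    X_ne_zero (R := k) (0 : Fin (r + 1)) ((Submodule.mem_bot k).1 (h ▸ X_mem 0))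
  obtain ⟨z, hz⟩ := (Groth.Agent.S10908.result (CohB1.polyGrading r k) hgen h1 UniqueFactorizationMonoid.instIsIntegrallyClosed d).2 w
  have key : ∀ (j : Fin (r + 1)) (c : Γ(CohB1.ProjSpace r k, D (k := k) j)),
      res (Twist.twistProjSpace r k (d : ℤ)) le_top w = c • gen (k := k) (d : ℤ) j → c = dh j z := by
    intro j c hc
    refine (isGen_gen (k := k) (d : ℤ) j (D j) le_rfl).1 ?_
    change c • res _ le_rfl _ = dh j (z : S k r) • res _ le_rfl _
    rw [res_self, ← hc, ← hz]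
    refine GrT.pt_ext 𝒜 𝒜 fun y => ?_
    have hy := GrT.not_mem_pow 𝒜 (GrT.not_mem_of_mem 𝒜 le_rfl y) d
    have hp : GrT.pO 𝒜 (dh j (z : S k r)) y = Localization.mk (z : S k r) ⟨X j ^ d, hy⟩ := by
      rw [← resO_self le_rfl (dh j (z : S k r))]
      exact GrT.pO_deh 𝒜 (X_mem j) z.2 le_rfl y hy
    change (Localization.mk (z : S k r) ⟨1, _⟩ : Twist.Loc 𝒜 y.1) =
      GrT.pO 𝒜 (dh j (z : S k r)) y * Localization.mk ((X j : S k r) ^ (d : ℤ).toNat) ⟨X j ^ (-(d : ℤ)).toNat, _⟩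
    rw [hp, Localization.mk_mul, Localization.mk_eq_mk_iff, Localization.r_iff_exists]
    refine ⟨1, ?_⟩
    simp only [Submonoid.coe_mul, OneMemClass.coe_one, one_mul, Int.toNat_natCast, Int.toNat_neg_natCast, pow_zero, mul_one]
    ring
  rw [key i c hc]
  refine Ideal.mem_map_of_mem _ (Ideal.subset_span ⟨z.2, fun j => ?_⟩)
  obtain ⟨c', hc', hw'⟩ := hw j
  rwa [← key j c' hw']

end Groth.Agent.RegPow
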