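import Groth.Agent.RegPow.Graded
import Groth.Prelude.Def_GrSyz

/-! Slices of a bigraded resolution of a Rees algebra are resolutions of powers of an ideal. -/

set_option autoImplicit false
set_option linter.unusedSectionVars false
set_option maxHeartbeats 1000000

universe u

open DirectSum MvPolynomial

noncomputable section

namespace Groth.Agent.RegPow

/-- Coefficients of components for a grading by weights. -/
theorem coeff_decompose {σ : Type*} {R : Type*} [CommRing R] {M : Type*} [AddCommGroup M] [DecidableEq M]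
    (w : σ → M) [GradedRing (weightedHomogeneousSubmodule R w)] (u : MvPolynomial σ R) (e : σ →₀ ℕ) (δ : M) :
    coeff e (decompose (weightedHomogeneousSubmodule R w) u δ : MvPolynomial σ R) =
      if Finsupp.weight w e = δ then coeff e u else 0 := by
  classical
  have h0 : ∀ (δ : M), Finsupp.weight w e ≠ δ →
      coeff e (decompose (weightedHomogeneousSubmodule R w) u δ : MvPolynomial σ R) = 0 := fun δ h =>
    by_contra fun hc => h ((decompose (weightedHomogeneousSubmodule R w) u δ).2 hc)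
  split_ifs with h
  · subst h
    conv_rhs => rw [← DirectSum.sum_support_decompose (weightedHomogeneousSubmodule R w) u, coeff_sum]
    refine (Finset.sum_eq_single _ (fun δ _ hδ => h0 δ (Ne.symm hδ)) fun hn => ?_).symm
    rw [DFinsupp.notMem_support_iff.1 hn]
    exact coeff_zero _
  · exact h0 δ h

variable {k : Type u} [Field k] (r N : ℕ)

/-- The polynomial ring of the base. -/
abbrev S (k : Type u) [Field k] (r : ℕ) : Type u := MvPolynomial (Fin (r + 1)) k

/-- The bidegrees of the variables. -/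
def wt : Fin (r + 1) ⊕ Fin N → ℤ × ℤ := Sum.elim (fun _ => (1, 0)) fun _ => (0, 1)

/-- The bigrading. -/
abbrev BT (k : Type u) [Field k] (r N : ℕ) : ℤ × ℤ → Submodule k (MvPolynomial (Fin (r + 1) ⊕ Fin N) k) :=
  weightedHomogeneousSubmodule k (wt r N)

instance : GradedAlgebra (BT k r N) := MvPolynomial.weightedGradedAlgebra k (wt r N)

/-- Polynomials in the second set of variables. -/
def Φ : MvPolynomial (Fin (r + 1) ⊕ Fin N) k ≃ₐ[k] MvPolynomial (Fin N) (S k r) :=
  (renameEquiv k (Equiv.sumComm _ _)).trans (sumAlgEquiv k (Fin N) (Fin (r + 1)))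

/-- An exponent from its two parts. -/
def join (ε : Fin (r + 1) →₀ ℕ) (γ : Fin N →₀ ℕ) : Fin (r + 1) ⊕ Fin N →₀ ℕ :=
  ε.mapDomain Sum.inl + γ.mapDomain Sum.inr

theorem join_inj {ε ε' : Fin (r + 1) →₀ ℕ} {γ γ' : Fin N →₀ ℕ} (h : join r N ε γ = join r N ε' γ') :
    ε = ε' ∧ γ = γ' := by
  constructor
  · ext i
    simpa [join, Finsupp.mapDomain_apply Sum.inl_injective, Finsupp.mapDomain_of_notMem_range] using
      DFunLike.congr_fun h (Sum.inl i)
  · ext i
    simpa [join, Finsupp.mapDomain_apply Sum.inr_injective, Finsupp.mapDomain_of_notMem_range] using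
      DFunLike.congr_fun h (Sum.inr i)

theorem exists_join (e : Fin (r + 1) ⊕ Fin N →₀ ℕ) : ∃ ε γ, join r N ε γ = e := by
  refine ⟨Finsupp.comapDomain Sum.inl e Sum.inl_injective.injOn,
    Finsupp.comapDomain Sum.inr e Sum.inr_injective.injOn, ?_⟩
  ext (i | i) <;> simp [join, Finsupp.mapDomain_apply Sum.inl_injective, Finsupp.mapDomain_apply Sum.inr_injective,
    Finsupp.mapDomain_of_notMem_range]

theorem Φ_inl (s : S k r) : Φ r N (rename Sum.inl s) = C s := by
  have h : ((Φ r N).toAlgHom.comp (rename Sum.inl)) =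
      (IsScalarTower.toAlgHom k (S k r) (MvPolynomial (Fin N) (S k r))) := by
    refine MvPolynomial.algHom_ext fun i => ?_
    simp [Φ, MvPolynomial.algebraMap_eq]
  exact DFunLike.congr_fun h s

theorem Φ_inr (γ : Fin N →₀ ℕ) :
    Φ r N (rename Sum.inr (monomial γ (1 : k))) = monomial γ (1 : S k r) := by
  induction γ using Finsupp.induction₂ with
  | zero => simp
  | add_single i n γ _ _ ih =>
    rw [monomial_add_single, map_mul, map_pow, rename_X, map_mul, map_pow, ih, monomial_add_single]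
    simp [Φ]

theorem Φ_join (ε : Fin (r + 1) →₀ ℕ) (γ : Fin N →₀ ℕ) (a : k) :
    Φ r N (monomial (join r N ε γ) a) = monomial γ (monomial ε a) := by
  have h : monomial (join r N ε γ) a = rename Sum.inl (monomial ε a) * rename Sum.inr (monomial γ (1 : k)) := by
    rw [rename_monomial, rename_monomial, monomial_mul, mul_one, join]
  rw [h, map_mul, Φ_inl, Φ_inr, C_mul_monomial, mul_one]

theorem coeff_Φ (u : MvPolynomial (Fin (r + 1) ⊕ Fin N) k) (ε : Fin (r + 1) →₀ ℕ) (γ : Fin N →₀ ℕ) :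
    coeff ε (coeff γ (Φ r N u)) = coeff (join r N ε γ) u := by
  classical
  induction u using MvPolynomial.induction_on' with
  | monomial e a =>
    obtain ⟨ε', γ', rfl⟩ := exists_join r N e
    rw [Φ_join]
    simp only [coeff_monomial]
    by_cases hg : γ' = γ
    · subst hg
      rw [if_pos rfl, coeff_monomial]
      exact if_congr ⟨fun h => by rw [h], fun h => (join_inj r N h).1⟩ rfl rfl
    · rw [if_neg hg, coeff_zero, if_neg fun h => hg (join_inj r N h).2]
  | add p q hp hq => simp only [map_add, coeff_add, hp, hq]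

theorem weight_join (ε : Fin (r + 1) →₀ ℕ) (γ : Fin N →₀ ℕ) :
    Finsupp.weight (wt r N) (join r N ε γ) = ((ε.degree : ℤ), (γ.degree : ℤ)) := by
  simp only [join, map_add, Finsupp.weight_apply, Finsupp.sum_mapDomain_index_inj Sum.inl_injective,
    Finsupp.sum_mapDomain_index_inj Sum.inr_injective]
  simp [wt, Finsupp.sum, Finsupp.degree_apply, Prod.ext_iff, Prod.fst_sum, Prod.snd_sum, Finset.sum_nsmul]

theorem weight_one' {τ : Type*} (e : τ →₀ ℕ) : Finsupp.weight (fun _ : τ => (1 : ℤ)) e = (e.degree : ℤ) := by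
  simp [Finsupp.weight_apply, Finsupp.sum, Finsupp.degree_apply]

variable {r N} in
theorem coeff_Φ_mem {c p : ℤ} {u : MvPolynomial (Fin (r + 1) ⊕ Fin N) k} (hu : u ∈ BT k r N (c, p))
    (γ : Fin N →₀ ℕ) :
    coeff γ (Φ r N u) ∈ GrSyz.stdGr k (Fin (r + 1)) c ∧ (coeff γ (Φ r N u) ≠ 0 → (γ.degree : ℤ) = p) := by
  have key : ∀ ε, coeff ε (coeff γ (Φ r N u)) ≠ 0 → (ε.degree : ℤ) = c ∧ (γ.degree : ℤ) = p := fun ε h => by
    rw [coeff_Φ] at h
    have := hu h
    rw [weight_join] at this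
    exact Prod.ext_iff.1 this
  refine ⟨fun ε h => (weight_one' ε).trans (key ε h).1, fun h => ?_⟩
  obtain ⟨ε, hε⟩ := MvPolynomial.ne_zero_iff.1 h
  exact (key ε hε).2

variable {r N} in
theorem Φ_mem {c p : ℤ} {u : MvPolynomial (Fin (r + 1) ⊕ Fin N) k} (hu : u ∈ BT k r N (c, p)) :
    Φ r N u ∈ GrSyz.stdGr (S k r) (Fin N) p :=
  fun γ h => (weight_one' γ).trans ((coeff_Φ_mem hu γ).2 h)

attribute [irreducible] Φ

/-! ### The resolution and its slices -/

variable {r N}
variable (d : ℕ) (f : Fin N → S k r)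

/-- Evaluation at the generators of the ideal. -/
abbrev ev : MvPolynomial (Fin N) (S k r) →ₐ[S k r] S k r := aeval f

/-- The first stage: relations of the bigraded Rees algebra. -/
def base : Stage (BT k r N) where
  n := 1
  δ _ := 0
  K := Submodule.span _ {v | (∃ e, IsHomV (BT k r N) (fun _ : Fin 1 => (0 : ℤ × ℤ)) e v) ∧ ev f (Φ r N (v 0)) = 0}
  hK := homogK_span (BT k r N) _ _ fun _ hv => hv.1

/-- The ranks. -/
abbrev rkB (i : ℕ) : ℕ := ((base f).syz i).n

/-- The bidegrees. -/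
abbrev dgB (i : ℕ) : Fin (rkB f i) → ℤ × ℤ := ((base f).syz i).δ

/-- The differentials, as polynomials in the second variables. -/
def DP (i : ℕ) : Matrix (Fin (rkB f i)) (Fin (rkB f (i + 1))) (MvPolynomial (Fin N) (S k r)) :=
  (((base f).syz i).D).map (Φ r N)

theorem DP_hom (i : ℕ) :
    IsHomM (GrSyz.stdGr (S k r) (Fin N)) (fun a => (dgB f i a).2) (fun b => (dgB f (i + 1) b).2) (DP f i) :=
  fun a b => Φ_mem (((base f).syz i).isHomM a b)

theorem DP_mulVec (i : ℕ) (v : Fin (rkB f (i + 1)) → MvPolynomial (Fin (r + 1) ⊕ Fin N) k) :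
    (DP f i).mulVec (fun b => Φ r N (v b)) = fun a => Φ r N (((base f).syz i).D.mulVec v a) := by
  funext a
  exact (RingHom.map_mulVec (Φ r N).toRingEquiv.toRingHom ((base f).syz i).D v a).symm

theorem DP_exact (i : ℕ) (v : Fin (rkB f (i + 1)) → MvPolynomial (Fin N) (S k r)) :
    (DP f i).mulVec v = 0 ↔ ∃ w, (DP f (i + 1)).mulVec w = v := by
  obtain ⟨v, rfl⟩ : ∃ v' : Fin (rkB f (i + 1)) → MvPolynomial (Fin (r + 1) ⊕ Fin N) k,
      (fun b => Φ r N (v' b)) = v :=
    ⟨fun b => (Φ r N).symm (v b), funext fun b => (Φ r N).apply_symm_apply _⟩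
  constructor
  · intro hv
    rw [DP_mulVec] at hv
    obtain ⟨w, hw⟩ := ((base f).exact' i v).1 (funext fun a => (Φ r N).injective ((congrFun hv a).trans (map_zero _).symm))
    refine ⟨fun b => Φ r N (w b), ?_⟩
    rw [DP_mulVec, hw]
  · rintro ⟨w, hw⟩
    obtain ⟨w, rfl⟩ : ∃ w' : Fin (rkB f (i + 2)) → MvPolynomial (Fin (r + 1) ⊕ Fin N) k,
        (fun b => Φ r N (w' b)) = w :=
      ⟨fun b => (Φ r N).symm (w b), funext fun b => (Φ r N).apply_symm_apply _⟩
    rw [DP_mulVec] at hw
    have h := ((base f).exact' i v).2 ⟨w, funext fun a => (Φ r N).injective (congrFun hw a)⟩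
    rw [DP_mulVec, h]
    exact funext fun a => map_zero _

variable (p : ℤ)

/-- The exponents of a slice. -/
def expts (z : ℤ) : Finset (Fin N →₀ ℕ) :=
  if 0 ≤ z then Finset.univ.finsuppAntidiag z.toNat else ∅

theorem mem_expts {z : ℤ} {γ : Fin N →₀ ℕ} : γ ∈ expts z ↔ (γ.degree : ℤ) = z := by
  unfold expts
  split_ifs with h
  · rw [Finset.mem_finsuppAntidiag, Finsupp.degree_eq_sum]
    constructor
    · rintro ⟨he, -⟩
      rw [show ∑ x, γ x = z.toNat from he]
      omega
    · intro he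
      exact ⟨show ∑ x, γ x = z.toNat by omega, Finset.subset_univ _⟩
  · simp only [Finset.notMem_empty, false_iff]
    intro he
    exact h (he ▸ Int.natCast_nonneg _)

/-- The index type of a slice. -/
abbrev Idx (i : ℕ) : Type := Σ b : Fin (rkB f i), expts (N := N) (p - (dgB f i b).2)

/-- The rank of a slice. -/
abbrev rkS (i : ℕ) : ℕ := Fintype.card (Idx f p i)

/-- The enumeration. -/
abbrev num (i : ℕ) : Idx f p i ≃ Fin (rkS f p i) := Fintype.equivFin _

/-- The degree of a basis vector of a slice. -/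
def degS (i : ℕ) (j : Fin (rkS f p i)) : ℤ := (dgB f i ((num f p i).symm j).1).1 + d * p

theorem coeff_decompose_std (u : MvPolynomial (Fin N) (S k r)) (e : Fin N →₀ ℕ) (δ : ℤ) :
    coeff e (decompose (GrSyz.stdGr (S k r) (Fin N)) u δ : MvPolynomial (Fin N) (S k r)) =
      if (e.degree : ℤ) = δ then coeff e u else 0 := by
  have h := @coeff_decompose (Fin N) (S k r) _ ℤ _ _ (fun _ => (1 : ℤ))
    (inferInstanceAs (GradedRing (GrSyz.stdGr (S k r) (Fin N)))) u e δ
  rw [weight_one'] at h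
  exact h

/-- Inclusion of a slice. -/
def emb (i : ℕ) : (Fin (rkS f p i) → S k r) →ₗ[S k r] (Fin (rkB f i) → MvPolynomial (Fin N) (S k r)) :=
  LinearMap.pi fun b => ∑ γ : expts (N := N) (p - (dgB f i b).2),
    (monomial γ.1).comp (LinearMap.proj (num f p i ⟨b, γ⟩))

/-- Projection to a slice. -/
def ext (i : ℕ) : (Fin (rkB f i) → MvPolynomial (Fin N) (S k r)) →ₗ[S k r] (Fin (rkS f p i) → S k r) :=
  LinearMap.pi fun j => (lcoeff (S k r) ((num f p i).symm j).2.1).comp (LinearMap.proj ((num f p i).symm j).1)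

theorem coeff_emb (i : ℕ) (v : Fin (rkS f p i) → S k r) (b : Fin (rkB f i)) (γ : Fin N →₀ ℕ) :
    coeff γ (emb f p i v b) = if h : γ ∈ expts (p - (dgB f i b).2) then v (num f p i ⟨b, ⟨γ, h⟩⟩) else 0 := by
  classical
  simp only [emb, LinearMap.pi_apply, LinearMap.sum_apply, LinearMap.comp_apply, LinearMap.proj_apply, coeff_sum,
    coeff_monomial]
  split_ifs with h
  · rw [Finset.sum_eq_single ⟨γ, h⟩ (fun γ' _ hne => if_neg fun he => hne (Subtype.ext he))
      (fun hn => absurd (Finset.mem_univ _) hn), if_pos rfl]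
  · exact Finset.sum_eq_zero fun γ' _ => if_neg fun he : γ'.1 = γ => h (he ▸ γ'.2)

theorem ext_emb (i : ℕ) (v : Fin (rkS f p i) → S k r) : ext f p i (emb f p i v) = v := by
  funext j
  obtain ⟨⟨b, γ, hγ⟩, rfl⟩ := (num f p i).surjective j
  simp only [ext, LinearMap.pi_apply, LinearMap.comp_apply, LinearMap.proj_apply, lcoeff_apply]
  rw [Equiv.symm_apply_apply, coeff_emb, dif_pos hγ]

theorem emb_ext (i : ℕ) (u : Fin (rkB f i) → MvPolynomial (Fin N) (S k r)) :
    emb f p i (ext f p i u) = vcmp (GrSyz.stdGr (S k r) (Fin N)) (fun a => (dgB f i a).2) p u := by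
  funext b
  refine MvPolynomial.ext _ _ fun γ => ?_
  rw [coeff_emb]
  refine Eq.trans ?_ (coeff_decompose_std (u b) γ (p - (dgB f i b).2)).symm
  by_cases h : γ ∈ expts (p - (dgB f i b).2)
  · rw [dif_pos h, if_pos (mem_expts.1 h)]
    simp only [ext, LinearMap.pi_apply, LinearMap.comp_apply, LinearMap.proj_apply, lcoeff_apply]
    rw [Equiv.symm_apply_apply]
  · rw [dif_neg h, if_neg fun he => h (mem_expts.2 he)]

theorem emb_hom (i : ℕ) (v : Fin (rkS f p i) → S k r) :
    IsHomV (GrSyz.stdGr (S k r) (Fin N)) (fun a => (dgB f i a).2) p (emb f p i v) := by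
  rw [show emb f p i v = emb f p i (ext f p i (emb f p i v)) by rw [ext_emb], emb_ext]
  exact isHomV_vcmp _ _ _ _

/-- A differential of a slice. -/
def dS (i : ℕ) : (Fin (rkS f p (i + 1)) → S k r) →ₗ[S k r] (Fin (rkS f p i) → S k r) :=
  (ext f p i).comp (((DP f i).mulVecLin.restrictScalars (S k r)).comp (emb f p (i + 1)))

theorem emb_dS (i : ℕ) (v : Fin (rkS f p (i + 1)) → S k r) :
    emb f p i (dS f p i v) = (DP f i).mulVec (emb f p (i + 1) v) := by
  show emb f p i (ext f p i ((DP f i).mulVec (emb f p (i + 1) v))) = _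
  rw [emb_ext, ← mulVec_vcmp _ (DP_hom f i), vcmp_of_hom _ (emb_hom f p (i + 1) v)]

theorem dS_exact (i : ℕ) : LinearMap.ker (dS f p i) = LinearMap.range (dS f p (i + 1)) := by
  ext v
  have hinj : ∀ j, Function.Injective (emb f p j) := fun j a b h => by rw [← ext_emb f p j a, h, ext_emb]
  constructor
  · intro hv
    have h : (DP f i).mulVec (emb f p (i + 1) v) = 0 := by
      rw [← emb_dS, show dS f p i v = 0 from hv, map_zero]
    obtain ⟨w, hw⟩ := (DP_exact f i _).1 h
    refine ⟨ext f p (i + 2) w, hinj _ ?_⟩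
    rw [emb_dS, emb_ext, mulVec_vcmp _ (DP_hom f (i + 1)), hw, vcmp_of_hom _ (emb_hom f p (i + 1) v)]
  · rintro ⟨w, rfl⟩
    refine hinj i ?_
    rw [map_zero, emb_dS, emb_dS]
    exact (DP_exact f i _).2 ⟨_, rfl⟩

theorem dS_mem (i : ℕ) (a : Fin (rkS f p i)) (b : Fin (rkS f p (i + 1))) :
    (LinearMap.toMatrix' (dS f p i) a b : S k r) ∈ GrSyz.stdGr k (Fin (r + 1)) (degS d f p (i + 1) b - degS d f p i a) := by
  classical
  obtain ⟨⟨b₁, γ₁, hγ₁⟩, rfl⟩ := (num f p i).surjective a
  obtain ⟨⟨b₂, γ₂, hγ₂⟩, rfl⟩ := (num f p (i + 1)).surjective b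
  rw [LinearMap.toMatrix'_apply]
  have he : emb f p (i + 1) (Pi.single (num f p (i + 1) ⟨b₂, ⟨γ₂, hγ₂⟩⟩) (1 : S k r)) =
      Pi.single b₂ (monomial γ₂ 1) := by
    funext c
    refine MvPolynomial.ext _ _ fun γ => ?_
    rw [coeff_emb]
    by_cases hc : c = b₂
    · subst hc
      rw [Pi.single_eq_same, coeff_monomial]
      by_cases hg : γ₂ = γ
      · subst hg
        rw [dif_pos hγ₂, Pi.single_eq_same, if_pos rfl]
      · rw [if_neg hg]
        split_ifs with h
        · refine Pi.single_eq_of_ne (fun he => hg ?_) _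
          have := (num f p (i + 1)).injective he
          simp only [Sigma.mk.inj_iff, heq_eq_eq, Subtype.mk.injEq, true_and] at this
          exact this.symm
        · rfl
    · rw [Pi.single_eq_of_ne hc, coeff_zero]
      split_ifs with h
      · refine Pi.single_eq_of_ne (fun he => hc ?_) _
        exact congrArg Sigma.fst ((num f p (i + 1)).injective he)
      · rfl
  simp only [dS, ext, LinearMap.comp_apply, LinearMap.restrictScalars_apply, Matrix.mulVecLin_apply,
    LinearMap.pi_apply, LinearMap.proj_apply, lcoeff_apply, he, Equiv.symm_apply_apply, degS]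
  rw [Matrix.mulVec_single, (num f p i).symm_apply_apply ⟨b₁, ⟨γ₁, hγ₁⟩⟩]
  show coeff γ₁ (DP f i b₁ b₂ * monomial γ₂ 1) ∈ GrSyz.stdGr k (Fin (r + 1)) _
  rw [coeff_mul_monomial']
  split_ifs
  · rw [mul_one, show (dgB f (i + 1) b₂).1 + (d : ℤ) * p - ((dgB f i b₁).1 + d * p) =
      (dgB f (i + 1) b₂).1 - (dgB f i b₁).1 by ring]
    exact (coeff_Φ_mem (((base f).syz i).isHomM b₁ b₂) _).1
  · exact zero_mem _

/-- The only generator. -/
abbrev z0 : Fin (rkB f 0) := ⟨0, Nat.one_pos⟩

/-- The augmentation of a slice. -/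
def augS (j : Fin (rkS f p 0)) : S k r := ev f (monomial ((num f p 0).symm j).2.1 1)

theorem augS_eq (v : Fin (rkS f p 0) → S k r) :
    ∑ j, v j * augS f p j = ev f (emb f p 0 v (z0 f)) := by
  rw [← (num f p 0).sum_comp (fun j => v j * augS f p j), Fintype.sum_sigma,
    Finset.sum_eq_single (z0 f) (fun b _ hb => absurd (Fin.ext (by have := b.isLt; change b.1 < 1 at this; show b.1 = 0; omega)) hb)
      (fun h => absurd (Finset.mem_univ _) h)]
  simp only [emb, LinearMap.pi_apply, LinearMap.sum_apply, LinearMap.comp_apply, LinearMap.proj_apply, map_sum, augS]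
  refine Finset.sum_congr rfl fun γ _ => ?_
  rw [Equiv.symm_apply_apply]
  rw [show monomial γ.1 (v (num f p 0 ⟨z0 f, γ⟩)) = v (num f p 0 ⟨z0 f, γ⟩) • monomial γ.1 (1 : S k r) by
    rw [smul_monomial, smul_eq_mul, mul_one], map_smul, smul_eq_mul]

variable (hf : ∀ j, f j ∈ GrSyz.stdGr k (Fin (r + 1)) d)
include hf

theorem ev_monomial_mem (γ : Fin N →₀ ℕ) :
    ev f (monomial γ 1) ∈ GrSyz.stdGr k (Fin (r + 1)) ((d : ℤ) * γ.degree) := by
  rw [ev, aeval_monomial, map_one, one_mul, Finsupp.degree_apply, Nat.cast_sum, Finset.mul_sum, Finsupp.prod]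
  refine SetLike.prod_mem_graded (GrSyz.stdGr k (Fin (r + 1))) (fun j : Fin N => (d : ℤ) * γ j)
    (fun j => f j ^ γ j) fun j _ => ?_
  rw [mul_comm, ← nsmul_eq_mul]
  exact SetLike.pow_mem_graded _ (hf j)

theorem augS_mem (j : Fin (rkS f p 0)) : augS f p j ∈ GrSyz.stdGr k (Fin (r + 1)) (degS d f p 0 j) := by
  obtain ⟨⟨b, γ, hγ⟩, rfl⟩ := (num f p 0).surjective j
  unfold augS degS
  rw [Equiv.symm_apply_apply]
  have : (γ.degree : ℤ) = p - 0 := mem_expts.1 hγ
  rw [show (dgB f 0 b).1 = 0 from rfl, zero_add]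
  have h := ev_monomial_mem d f hf γ
  rwa [this, sub_zero] at h

end Groth.Agent.RegPow
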